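import Groth.Agent.H17.CechShRes.Eval
import Groth.Agent.H16Derived.KFlat.SheafStalk
import Groth.Agent.H06Mod.StalkExact
import Mathlib

/-!
# The Čech complex of sheaves resolves the module
-/

set_option autoImplicit false
set_option linter.style.haveILetI false

universe u

open CategoryTheory CategoryTheory.Limits AlgebraicGeometry TopologicalSpace Opposite

noncomputable section

namespace Groth.Agent.H17.CechShRes

open Groth.Agent.H06Mod Groth.Agent.H15Site.CechTop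

variable {X : Scheme.{u}}

/-- Exactness from local exactness on sections. -/
theorem exact_of_local (S : ShortComplex X.Modules)
    (h : ∀ (U : X.Opens) (b : Γ(S.X₂, U)), S.g.app U b = 0 → ∀ x ∈ U,
      ∃ (W : X.Opens) (e : W ≤ U), x ∈ W ∧ ∃ a, S.f.app W a = S.X₂.presheaf.map (homOfLE e).op b) :
    S.Exact := by
  refine (H16Derived.KFlat.Stalk.exact_iff _).2 fun x => ?_
  rw [ShortComplex.moduleCat_exact_iff]
  intro b hb
  obtain ⟨U, hU, b, rfl⟩ := S.X₂.presheaf.exists_germ_eq b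
  have hb' : stalkLin S.g x (S.X₂.presheaf.germ U x hU b) = 0 := hb
  rw [stalkLin_germ, ← map_zero (S.X₃.presheaf.germ U x hU).hom] at hb'
  obtain ⟨W₀, hxW₀, iU, iU', heq⟩ := S.X₃.presheaf.germ_eq x hU hU _ 0 hb'
  rw [map_zero] at heq
  have hb'' : S.g.app W₀ (S.X₂.presheaf.map iU.op b) = 0 := by
    rw [← heq]
    exact congr($(S.g.mapPresheaf.naturality iU.op) b)
  obtain ⟨W, e, hxW, a, ha⟩ := h W₀ _ hb'' x hxW₀
  refine ⟨S.X₁.presheaf.germ W x hxW a, ?_⟩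
  show stalkLin S.f x (S.X₁.presheaf.germ W x hxW a) = _
  rw [stalkLin_germ, ha, TopCat.Presheaf.germ_res_apply]
  exact S.X₂.presheaf.germ_res_apply iU x hxW₀ b

variable {ι : Type u} (𝒰 : ι → X.Opens) (F : X.Modules)

/-- The intersection, as an open of `X`. -/
abbrev capX {n : ℕ} (a : Fin (n + 1) → ι) : X.Opens := cap 𝒰 a

/-- The comparison in one degree. -/
def e (V : X.Opens) (n : ℕ) : Γ(((CechOX.cechSh 𝒰).obj F).X n, V) →+ C 𝒰 (interPre F V) n :=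
  ((secIso 𝒰 F V).hom.f n).hom

theorem e_surjective (V : X.Opens) (n : ℕ) : Function.Surjective (e 𝒰 F V n) := fun y =>
  ⟨((secIso 𝒰 F V).inv.f n).hom y,
    congr($(congrArg (fun φ => HomologicalComplex.Hom.f φ n) (secIso 𝒰 F V).inv_hom_id) y)⟩

theorem e_injective (V : X.Opens) (n : ℕ) : Function.Injective (e 𝒰 F V n) :=
  Function.LeftInverse.injective (g := ((secIso 𝒰 F V).inv.f n).hom) fun x =>
    congr($(congrArg (fun φ => HomologicalComplex.Hom.f φ n) (secIso 𝒰 F V).hom_inv_id) x)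

theorem e_d (V : X.Opens) (n : ℕ) (x : Γ(((CechOX.cechSh 𝒰).obj F).X n, V)) :
    e 𝒰 F V (n + 1) ((((CechOX.cechSh 𝒰).obj F).d n (n + 1)).app V x) =
      (d 𝒰 (interPre F V) n).hom (e 𝒰 F V n x) :=
  (congr($((secIso 𝒰 F V).hom.comm n (n + 1)) x)).symm

theorem proj_e (V : X.Opens) (n : ℕ) (x : Γ(((CechOX.cechSh 𝒰).obj F).X n, V)) (a : Fin (n + 1) → ι) :
    (proj 𝒰 (interPre F V) a).hom (e 𝒰 F V n x) =
      res (interPre F V) (prod_eq 𝒰 a).ge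
        ((Pi.π (fun a : Fin (n + 1) → ι => (CechOX.pushRestrFam.flip.obj F).obj (op (∏ᶜ (𝒰 ∘ a)))) a).app V x) := by
  rw [proj_apply]
  exact congrArg _ (congr($(cechCompIso_hom_π 𝒰 (secFun V) (CechOX.pushRestrFam.flip.obj F) n a) x))

theorem π_aug (V : X.Opens) (s : Γ(F, V)) (a : Fin 1 → ι) :
    (Pi.π (fun a : Fin 1 → ι => (CechOX.pushRestrFam.flip.obj F).obj (op (∏ᶜ (𝒰 ∘ a)))) a).app V
        ((CechOX.cechShAug 𝒰 F).app V s) =
      F.presheaf.map (homOfLE ((∏ᶜ (𝒰 ∘ a)).ι.image_preimage_le V)).op s :=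
  congr($(congrArg (fun φ => Scheme.Modules.Hom.app φ V)
    (Pi.lift_π (f := fun a : Fin 1 → ι => (CechOX.pushRestrFam.flip.obj F).obj (op (∏ᶜ (𝒰 ∘ a))))
      (fun i : Fin 1 → ι => (Scheme.Modules.restrictAdjunction (∏ᶜ (𝒰 ∘ i)).ι).unit.app F) a)) s)

theorem mres_mres (M : X.Modules) {U V W : X.Opens} (h : V ≤ U) (h' : W ≤ V) (x : Γ(M, U)) :
    M.presheaf.map (homOfLE h').op (M.presheaf.map (homOfLE h).op x) =
      M.presheaf.map (homOfLE (h'.trans h)).op x := by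
  rw [← ConcreteCategory.comp_apply, ← Functor.map_comp]
  rfl

theorem proj_e_aug (V : X.Opens) (s : Γ(F, V)) (a : Fin 1 → ι) :
    (proj 𝒰 (interPre F V) a).hom (e 𝒰 F V 0 ((CechOX.cechShAug 𝒰 F).app V s)) =
      F.presheaf.map (homOfLE ((capX 𝒰 a).ι.image_preimage_le V)).op s := by
  rw [proj_e, π_aug]
  exact mres_mres F _ _ s

theorem injective_aug (h𝒰 : ⨆ i, 𝒰 i = ⊤) (V : X.Opens) :
    Function.Injective ((CechOX.cechShAug 𝒰 F).app V) := by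
  intro s t hst
  let Cv : ι → X.Opens := fun i => (capX 𝒰 (fun _ : Fin 1 => i)).ι ''ᵁ ((capX 𝒰 (fun _ : Fin 1 => i)).ι ⁻¹ᵁ V)
  refine TopCat.Sheaf.eq_of_locally_eq' (⟨F.presheaf, F.isSheaf⟩ : TopCat.Sheaf AddCommGrpCat.{u} X.carrier)
    Cv V (fun i => homOfLE ((capX 𝒰 (fun _ : Fin 1 => i)).ι.image_preimage_le V)) ?_ s t fun i => ?_
  · intro p hp
    obtain ⟨i, hi⟩ := Opens.mem_iSup.1 ((h𝒰.ge : ⊤ ≤ ⨆ i, 𝒰 i) (show p ∈ (⊤ : X.Opens) from trivial))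
    refine Opens.mem_iSup.2 ⟨i, ?_⟩
    show p ∈ (capX 𝒰 (fun _ : Fin 1 => i)).ι ''ᵁ ((capX 𝒰 (fun _ : Fin 1 => i)).ι ⁻¹ᵁ V)
    rw [image_preimage_eq, show capX 𝒰 (fun _ : Fin 1 => i) = 𝒰 i from iInf_const]
    exact ⟨hi, hp⟩
  · show F.presheaf.map (homOfLE ((capX 𝒰 (fun _ : Fin 1 => i)).ι.image_preimage_le V)).op s =
      F.presheaf.map (homOfLE ((capX 𝒰 (fun _ : Fin 1 => i)).ι.image_preimage_le V)).op t
    have h1 := proj_e_aug 𝒰 F V s (fun _ : Fin 1 => i)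
    have h2 := proj_e_aug 𝒰 F V t (fun _ : Fin 1 => i)
    rw [hst] at h1
    exact h1.symm.trans h2

theorem res_eq (V : X.Opens) {A B : X.Opens} (h : B ≤ A) (x : (interPre F V).obj (op A)) :
    res (interPre F V) h x = F.presheaf.map (homOfLE (CechOX.image_preimage_mono h V)).op x := rfl

theorem aug_d : CechOX.cechShAug 𝒰 F ≫ ((CechOX.cechSh 𝒰).obj F).d 0 1 = 0 := by
  apply Scheme.Modules.hom_ext
  intro V
  ext s
  show (((CechOX.cechSh 𝒰).obj F).d 0 1).app V ((CechOX.cechShAug 𝒰 F).app V s) = 0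
  refine e_injective 𝒰 F V 1 ?_
  rw [e_d, map_zero]
  refine H15Site.CechTop.hom_ext 𝒰 _ fun c => ?_
  rw [proj_d, map_zero, Fin.sum_univ_two, proj_e_aug, proj_e_aug, Fin.val_zero, pow_zero, one_smul,
    Fin.val_one, pow_one, neg_smul, one_smul, res_eq, res_eq, mres_mres, mres_mres]
  exact add_neg_cancel _

theorem exists_aug_eq {V : X.Opens} {k : ι} (hV : V ≤ 𝒰 k) (x : Γ(((CechOX.cechSh 𝒰).obj F).X 0, V))
    (hx : (((CechOX.cechSh 𝒰).obj F).d 0 1).app V x = 0) :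
    ∃ s, (CechOX.cechShAug 𝒰 F).app V s = x := by
  have hz : (d 𝒰 (interPre F V) 0).hom (e 𝒰 F V 0 x) = 0 := by rw [← e_d, hx, map_zero]
  have hle : V ≤ (capX 𝒰 (fun _ : Fin 1 => k)).ι ''ᵁ ((capX 𝒰 (fun _ : Fin 1 => k)).ι ⁻¹ᵁ V) := by
    rw [image_preimage_eq, show capX 𝒰 (fun _ : Fin 1 => k) = 𝒰 k from iInf_const]
    exact le_inf hV le_rfl
  let g : Γ(F, V) := F.presheaf.map (homOfLE hle).op
    ((proj 𝒰 (interPre F V) (fun _ : Fin 1 => k)).hom (e 𝒰 F V 0 x))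
  refine ⟨g, e_injective 𝒰 F V 0 (H15Site.CechTop.hom_ext 𝒰 _ fun a => ?_)⟩
  refine (isConeAt_interPre 𝒰 F hV 0 a).1 ?_
  rw [res_proj_eq_of_d_eq_zero 𝒰 (interPre F V) k hz a, proj_e_aug, res_eq, res_eq, mres_mres]
  exact mres_mres F _ _ _

theorem exact_succ (h𝒰 : ⨆ i, 𝒰 i = ⊤) (p : ℕ) : IsZero (((CechOX.cechSh 𝒰).obj F).homology (p + 1)) := by
  refine (HomologicalComplex.exactAt_iff_isZero_homology _ _).1 ?_
  rw [HomologicalComplex.exactAt_iff' _ p (p + 1) (p + 2) (by simp) (by simp)]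
  refine exact_of_local _ fun U b hb x hx => ?_
  obtain ⟨k, hk⟩ := Opens.mem_iSup.1 ((h𝒰.ge : ⊤ ≤ ⨆ i, 𝒰 i) (show x ∈ (⊤ : X.Opens) from trivial))
  refine ⟨U ⊓ 𝒰 k, inf_le_left, ⟨hx, hk⟩, ?_⟩
  let b' : Γ(((CechOX.cechSh 𝒰).obj F).X (p + 1), U ⊓ 𝒰 k) :=
    (((CechOX.cechSh 𝒰).obj F).X (p + 1)).presheaf.map (homOfLE inf_le_left).op b
  have hb' : (((CechOX.cechSh 𝒰).obj F).d (p + 1) (p + 2)).app (U ⊓ 𝒰 k) b' = 0 := by
    have h1 := congr($((((CechOX.cechSh 𝒰).obj F).d (p + 1) (p + 2)).mapPresheaf.naturality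
      (homOfLE (inf_le_left : U ⊓ 𝒰 k ≤ U)).op) b)
    refine h1.trans ?_
    exact (congrArg ((((CechOX.cechSh 𝒰).obj F).X (p + 2)).presheaf.map
      (homOfLE (inf_le_left : U ⊓ 𝒰 k ≤ U)).op) hb).trans (map_zero _)
  let z := e 𝒰 F _ (p + 1) b'
  have hz : (d 𝒰 (interPre F (U ⊓ 𝒰 k)) (p + 1)).hom z = 0 := by rw [← e_d, hb', map_zero]
  have hcone := isConeAt_interPre 𝒰 F (inf_le_right : U ⊓ 𝒰 k ≤ 𝒰 k)
  have hy := d_htpy_add hcone z
  rw [hz, map_zero, add_zero] at hy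
  obtain ⟨a, ha⟩ := e_surjective 𝒰 F (U ⊓ 𝒰 k) p (htpy hcone p z)
  refine ⟨a, e_injective 𝒰 F _ (p + 1) ?_⟩
  refine (e_d 𝒰 F _ p a).trans ?_
  rw [ha, hy]
  rfl

theorem existsUnique_lift (h𝒰 : ⨆ i, 𝒰 i = ⊤) (G : X.Modules) (g : G ⟶ ((CechOX.cechSh 𝒰).obj F).X 0)
    (hg : g ≫ ((CechOX.cechSh 𝒰).obj F).d 0 1 = 0) :
    ∃! g' : G ⟶ F, g' ≫ CechOX.cechShAug 𝒰 F = g := by
  haveI : Mono (CechOX.cechShAug 𝒰 F) := by
    haveI : Mono ((Scheme.Modules.toPresheaf X).map (CechOX.cechShAug 𝒰 F)) := by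
      haveI : ∀ U, Mono (((Scheme.Modules.toPresheaf X).map (CechOX.cechShAug 𝒰 F)).app U) := fun U =>
        (AddCommGrpCat.mono_iff_injective _).2 (injective_aug 𝒰 F h𝒰 U.unop)
      exact NatTrans.mono_of_mono_app _
    exact (Scheme.Modules.toPresheaf X).mono_of_mono_map inferInstance
  have hex : (ShortComplex.mk _ _ (aug_d 𝒰 F)).Exact := exact_of_local _ fun U b hb x hx => by
    obtain ⟨k, hk⟩ := Opens.mem_iSup.1 ((h𝒰.ge : ⊤ ≤ ⨆ i, 𝒰 i) (show x ∈ (⊤ : X.Opens) from trivial))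
    refine ⟨U ⊓ 𝒰 k, inf_le_left, ⟨hx, hk⟩, exists_aug_eq 𝒰 F inf_le_right _ ?_⟩
    have h1 := congr($((((CechOX.cechSh 𝒰).obj F).d 0 1).mapPresheaf.naturality
      (homOfLE (inf_le_left : U ⊓ 𝒰 k ≤ U)).op) b)
    refine h1.trans ?_
    exact (congrArg ((((CechOX.cechSh 𝒰).obj F).X 1).presheaf.map
      (homOfLE (inf_le_left : U ⊓ 𝒰 k ≤ U)).op) hb).trans (map_zero _)
  refine ⟨hex.lift g hg, hex.lift_f g hg, fun g' hg' => ?_⟩
  exact (cancel_mono (CechOX.cechShAug 𝒰 F)).1 (hg'.trans (hex.lift_f g hg).symm)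

end Groth.Agent.H17.CechShRes
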