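import Groth.Agent.H17.CechShRes.Eval

/-!
# Comparing Čech complexes along an additive functor
-/

set_option autoImplicit false
set_option linter.style.haveILetI false

universe u

open CategoryTheory CategoryTheory.Limits AlgebraicGeometry TopologicalSpace Opposite

noncomputable section

namespace Groth.Agent.H17.CechShRes

variable {C C' : Type u} [Category.{u} C] [HasFiniteProducts C] [Category.{u} C'] [HasFiniteProducts C']
  {A : Type (u + 1)} [Category.{u} A] [Preadditive A] [HasProducts.{u} A]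
  {B : Type (u + 1)} [Category.{u} B] [Preadditive B] [HasProducts.{u} B]
  {ι : Type u} (U : ι → C) (U' : ι → C') (G : A ⥤ B) [G.Additive]
  (P : Cᵒᵖ ⥤ A) (P' : C'ᵒᵖ ⥤ B)
  [∀ n : ℕ, PreservesLimitsOfShape (Discrete (Fin (n + 1) → ι)) G]
  (θ : ∀ (n : ℕ) (a : Fin (n + 1) → ι), G.obj (P.obj (op (∏ᶜ (U ∘ a)))) ≅ P'.obj (op (∏ᶜ (U' ∘ a))))

section prod

variable {J : Type u} {f : J → A} {g : J → B} [PreservesLimitsOfShape (Discrete J) G] (t : ∀ j, G.obj (f j) ≅ g j)

/-- An isomorphism of products. -/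
def mapProdIso : G.obj (∏ᶜ f) ≅ ∏ᶜ g := PreservesProduct.iso G f ≪≫ Pi.mapIso t

omit [G.Additive] [Preadditive A] [Preadditive B] in
theorem mapProdIso_hom_π (j : J) : (mapProdIso G t).hom ≫ Pi.π g j = G.map (Pi.π f j) ≫ (t j).hom := by
  rw [mapProdIso, Iso.trans_hom, Category.assoc,
    show (Pi.mapIso t).hom = Limits.Pi.map fun j => (t j).hom from rfl, Limits.Pi.map_π, PreservesProduct.iso_hom,
    ← Category.assoc, piComparison_comp_π]

end prod

/-- The comparison in one degree. -/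
def compareDegIso (n : ℕ) :
    G.obj (((cechComplexFunctor U).obj P).X n) ≅ ((cechComplexFunctor U').obj P').X n :=
  mapProdIso G (f := fun a : Fin (n + 1) → ι => P.obj (op (∏ᶜ (U ∘ a)))) (θ n)

omit [G.Additive] in
theorem compareDegIso_hom_π (n : ℕ) (a : Fin (n + 1) → ι) :
    (compareDegIso U U' G P P' θ n).hom ≫ Pi.π (fun a : Fin (n + 1) → ι => P'.obj (op (∏ᶜ (U' ∘ a)))) a =
      G.map (Pi.π (fun a : Fin (n + 1) → ι => P.obj (op (∏ᶜ (U ∘ a)))) a) ≫ (θ n a).hom :=
  mapProdIso_hom_π G (θ n) a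

/-- An additive functor commutes with Čech complexes, given a natural family of comparisons of values. -/
def compareIso
    (hθ : ∀ (n m : ℕ) (a : Fin (n + 1) → ι) (b : Fin (m + 1) → ι)
      (i : (∏ᶜ (U ∘ a)) ⟶ ∏ᶜ (U ∘ b)) (i' : (∏ᶜ (U' ∘ a)) ⟶ ∏ᶜ (U' ∘ b)),
      G.map (P.map i.op) ≫ (θ n a).hom = (θ m b).hom ≫ P'.map i'.op) :
    (G.mapHomologicalComplex (ComplexShape.up ℕ)).obj ((cechComplexFunctor U).obj P) ≅
      (cechComplexFunctor U').obj P' :=
  HomologicalComplex.Hom.isoOfComponents (fun n => compareDegIso U U' G P P' θ n) fun i j h => by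
    obtain rfl : i + 1 = j := h
    show (compareDegIso U U' G P P' θ i).hom ≫ ((cechComplexFunctor U').obj P').d i (i + 1) =
      G.map (((cechComplexFunctor U).obj P).d i (i + 1)) ≫ (compareDegIso U U' G P P' θ (i + 1)).hom
    rw [d_eq_sum, d_eq_sum]
    erw [G.map_sum]
    erw [Preadditive.comp_sum, Preadditive.sum_comp]
    refine Finset.sum_congr rfl fun j _ => ?_
    erw [Functor.map_zsmul, Preadditive.comp_zsmul, Preadditive.zsmul_comp]
    congr 1
    refine Pi.hom_ext _ _ fun a => ?_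
    refine (Category.assoc _ _ _).trans ((?_ : _ = _).trans (Category.assoc _ _ _).symm)
    refine Eq.trans ?_ (congrArg (_ ≫ ·) (compareDegIso_hom_π U U' G P P' θ (i + 1) a).symm)
    refine Eq.trans (congrArg (_ ≫ ·) (Pi.lift_π _ a)) ?_
    erw [← G.map_comp_assoc, Pi.lift_π]
    refine (Category.assoc _ _ _).symm.trans ?_
    refine (congrArg (· ≫ _) (compareDegIso_hom_π U U' G P P' θ i _)).trans ?_
    refine Eq.trans ?_ (congrArg (· ≫ (θ (i + 1) a).hom) (G.map_comp _ _).symm)
    refine (Category.assoc _ _ _).trans (Eq.trans ?_ (Category.assoc _ _ _).symm)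
    exact congrArg (_ ≫ ·) (hθ _ _ _ _ _ _).symm

end Groth.Agent.H17.CechShRes
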