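import Groth.Agent.H17.CechShRes.Main
import Groth.Agent.H16Derived.QCohD.AcyclicUnit
import Groth.Agent.H16Derived.QRep.Vanish
import Groth.Agent.H10Coh.QCohOps
import Groth.Agent.H1DFun.RDAdd
import Groth.Agent.H15Site.DescTop.ExtendMap

/-!
# The relative Čech complex computes `Rf_*`
-/

set_option autoImplicit false
set_option linter.style.haveILetI false
set_option backward.isDefEq.respectTransparency false

universe u

open CategoryTheory CategoryTheory.Limits AlgebraicGeometry TopologicalSpace Opposite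

attribute [local instance] HasDerivedCategory.standard

noncomputable section

namespace Groth.Agent.H17.CechShRes

open Groth.Agent.H16Derived Groth.Agent.H16Derived.KFlat.Stalk Groth.Agent.H16Derived.QCohD
  Groth.Agent.H15Site.CechTop

variable {X S : Scheme.{u}} {ι : Type u} (𝒰 : ι → X.Opens)

/-- Intersections of affine opens are affine. -/
theorem isAffineOpen_prod [IsAffineHom (pullback.diagonal (terminal.from X))] (h𝒰 : ∀ i, IsAffineOpen (𝒰 i))
    {n : ℕ} (a : Fin (n + 1) → ι) : IsAffineOpen (∏ᶜ (𝒰 ∘ a) : X.Opens) := by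
  rw [prod_eq]
  show IsAffineOpen (⨅ k, 𝒰 (a k))
  exact IsAffineOpen.iInf fun k => h𝒰 (a k)

/-- An affine scheme maps affinely to a scheme with affine diagonal. -/
theorem isAffineHom_of_isAffine {W : Scheme.{u}} [IsAffine W] [IsAffineHom (pullback.diagonal (terminal.from S))]
    (h : W ⟶ S) : IsAffineHom h := by
  let z := terminal.from S
  haveI : IsAffineHom (h ≫ z) := by
    rw [terminal.comp_from]; infer_instance
  have sq := pullback_lift_diagonal_isPullback h z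
  haveI : IsAffineHom (pullback.lift (𝟙 W) h (by simp) : W ⟶ pullback (h ≫ z) z) :=
    MorphismProperty.of_isPullback sq ‹IsAffineHom (pullback.diagonal (terminal.from S))›
  haveI : IsAffineHom (pullback.snd (h ≫ z) z) := MorphismProperty.pullback_snd _ _ ‹_›
  rw [← pullback.lift_snd (𝟙 W) h (show 𝟙 W ≫ h ≫ z = h ≫ z by simp)]
  infer_instance

variable [Finite ι] (F : X.Modules)

/-- Properties stable under finite products pass to the terms of the Čech complex. -/
theorem prop_cechSh_X (n : ℕ) (P : X.Modules → Prop) (hiso : ∀ {M N : X.Modules}, (M ≅ N) → P M → P N)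
    (hprod : ∀ {m : ℕ} (G : Fin m → X.Modules), (∀ k, P (G k)) → P (⨁ G))
    (h : ∀ a : Fin (n + 1) → ι, P ((CechOX.pushRestr (∏ᶜ (𝒰 ∘ a))).obj F)) :
    P (((CechOX.cechSh 𝒰).obj F).X n) := by
  obtain ⟨m, ⟨e⟩⟩ := Finite.exists_equiv_fin (Fin (n + 1) → ι)
  let g : (Fin (n + 1) → ι) → X.Modules := fun a => (CechOX.pushRestr (∏ᶜ (𝒰 ∘ a))).obj F
  refine hiso (biproduct.isoProduct (fun k : Fin m => g (e.symm k)) ≪≫ Pi.reindex e.symm g ≪≫
    Iso.refl _) (hprod _ fun k => h _)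

theorem isQCoh_cechSh_X (hF : Coh.IsQCoh F) (n : ℕ)
    (hj : ∀ a : Fin (n + 1) → ι, IsAffineHom (∏ᶜ (𝒰 ∘ a) : X.Opens).ι) :
    Coh.IsQCoh (((CechOX.cechSh 𝒰).obj F).X n) :=
  prop_cechSh_X 𝒰 F n (fun M => Coh.IsQCoh M) (fun e h => @H10Coh.isQuasicoherent_of_iso _ _ _ e h)
    (fun G hG => @H10Coh.isQuasicoherent_biproduct _ _ _ G hG) fun a => by
      haveI := hj a
      haveI : F.IsQuasicoherent := hF
      exact @H10Coh.isQuasicoherent_pushforward_of_isAffineHom _ _ (∏ᶜ (𝒰 ∘ a) : X.Opens).ι _ _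
        (Scheme.Modules.isQuasicoherent_restrictFunctor _ F)

variable (f : X ⟶ S)

theorem isZero_rpush_cechSh [DCoh.HasRpush f] [HasInjectiveResolutions X.Modules] (hF : Coh.IsQCoh F) (n : ℕ)
    (hj : ∀ a : Fin (n + 1) → ι, IsAffineHom (∏ᶜ (𝒰 ∘ a) : X.Opens).ι)
    (hjf : ∀ a : Fin (n + 1) → ι, IsAffineHom ((∏ᶜ (𝒰 ∘ a) : X.Opens).ι ≫ f)) (i : ℕ) (hi : 0 < i) :
    IsZero ((Coh.Rpush f i).obj (((CechOX.cechSh 𝒰).obj F).X n)) := by
  refine prop_cechSh_X 𝒰 F n (fun M => IsZero ((Coh.Rpush f i).obj M))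
    (fun e h => h.of_iso ((Coh.Rpush f i).mapIso e.symm)) (fun G hG => ?_) fun a => ?_
  · haveI : (Coh.Rpush f i).Additive := H1DFun.rightDerived_additive (Scheme.Modules.pushforward f) i
    haveI := Functor.preservesFiniteBiproductsOfAdditive (Coh.Rpush f i)
    refine IsZero.of_iso ?_ ((Coh.Rpush f i).mapBiproduct G)
    rw [IsZero.iff_id_eq_zero]
    exact biproduct.hom_ext _ _ fun k => (hG k).eq_of_tgt _ _
  · haveI := hj a
    haveI := hjf a
    let j := (∏ᶜ (𝒰 ∘ a) : X.Opens).ι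
    haveI := KFlat.GammaAcyclic.hasRpush j
    haveI := KFlat.GammaAcyclic.hasRpush (j ≫ f)
    haveI : F.IsQuasicoherent := hF
    have hM : Coh.IsQCoh (F.restrict j) := Scheme.Modules.isQuasicoherent_restrictFunctor _ F
    obtain ⟨e₁⟩ := QRep.nonempty_rpush_single_iso j hM 0
    obtain ⟨e₂⟩ := QRep.nonempty_rpush_single_iso (j ≫ f) hM 0
    obtain ⟨e₃⟩ := nonempty_rpushCompIso j f
    obtain ⟨e₄⟩ := nonempty_hd_rpush_single f ((Scheme.Modules.pushforward j).obj (F.restrict j)) i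
    refine IsZero.of_iso ?_ (e₄.symm ≪≫ (DerivedCategory.homologyFunctor _ _).mapIso
      ((DCoh.Rpush f).mapIso e₁.symm ≪≫ e₃.app _ ≪≫ e₂))
    exact DerivedCategory.isZero_of_isLE _ 0 _ (by omega)

/-- The coaugmentation as a map of complexes. -/
def augCx : (CochainComplex.single₀ X.Modules).obj F ⟶ (CechOX.cechSh 𝒰).obj F :=
  ((CechOX.cechSh 𝒰).obj F).fromSingle₀Equiv F |>.symm ⟨CechOX.cechShAug 𝒰 F, aug_d 𝒰 F⟩

omit [Finite ι] in
theorem quasiIso_augCx (h𝒰 : ⨆ i, 𝒰 i = ⊤) : QuasiIso (augCx 𝒰 F) := by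
  refine ⟨fun n => ?_⟩
  rcases n with _ | n
  · rw [CochainComplex.quasiIsoAt₀_iff, ShortComplex.quasiIso_iff_of_zeros]
    rotate_left
    · rfl
    · rfl
    · rfl
    have h0 : (augCx 𝒰 F).f 0 = CechOX.cechShAug 𝒰 F := by simp [augCx]
    have hw : ∀ {G : X.Modules} (g : G ⟶ F), (g ≫ CechOX.cechShAug 𝒰 F) ≫ ((CechOX.cechSh 𝒰).obj F).d 0 1 = 0 :=
      fun g => (Category.assoc _ _ _).trans ((congrArg (g ≫ ·) (aug_d 𝒰 F)).trans comp_zero)
    have hmono : Mono (CechOX.cechShAug 𝒰 F) := ⟨fun {G} g₁ g₂ h => by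
      obtain ⟨g', -, hu⟩ := existsUnique_lift 𝒰 F h𝒰 G (g₂ ≫ CechOX.cechShAug 𝒰 F) (hw g₂)
      exact (hu g₁ h).trans (hu g₂ rfl).symm⟩
    refine ⟨?_, ?_⟩
    · haveI : Mono ((augCx 𝒰 F).f 0) := h0 ▸ hmono
      refine ShortComplex.exact_of_f_is_kernel _ (@KernelFork.IsLimit.ofι' _ _ _ _ _ _ _ _ _ (fun {G} g hg => ?_) (by show Mono ((augCx 𝒰 F).f 0); rw [h0]; exact hmono))
      have hex := existsUnique_lift 𝒰 F h𝒰 G g hg
      refine ⟨hex.choose, ?_⟩
      show hex.choose ≫ (augCx 𝒰 F).f 0 = g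
      rw [h0]
      exact hex.choose_spec.1
    · show Mono ((augCx 𝒰 F).f 0)
      rw [h0]
      exact hmono
  · rw [quasiIsoAt_iff_exactAt _ _ (CochainComplex.exactAt_succ_single_obj F n),
      HomologicalComplex.exactAt_iff_isZero_homology]
    exact exact_succ 𝒰 F h𝒰 n

/-- **The relative Čech complex computes `Rf_*`.** -/
theorem nonempty_relCechZ_iso (hF : Coh.IsQCoh F) (h𝒰 : ⨆ i, 𝒰 i = ⊤) [DCoh.HasRpush f]
    (hj : ∀ (n : ℕ) (a : Fin (n + 1) → ι), IsAffineHom (∏ᶜ (𝒰 ∘ a) : X.Opens).ι)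
    (hjf : ∀ (n : ℕ) (a : Fin (n + 1) → ι), IsAffineHom ((∏ᶜ (𝒰 ∘ a) : X.Opens).ι ≫ f)) :
    Nonempty (DCoh.toD S (CechOX.relCechZ 𝒰 f F) ≅ (DCoh.Rpush f).obj (DCoh.inD X F)) := by
  haveI := hasInjectiveResolutions_modules (X := X)
  let e := ComplexShape.embeddingUpNat
  let K := (CechOX.cechSh 𝒰).obj F
  let C : CochainComplex X.Modules ℤ := K.extend e
  haveI hRadd : ∀ i, (Coh.Rpush f i).Additive := fun i => H1DFun.rightDerived_additive (Scheme.Modules.pushforward f) i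
  haveI : C.IsStrictlyGE 0 := (CochainComplex.isStrictlyGE_iff _ _).2 fun p hp =>
    K.isZero_extend_X e p fun k => by simp [e, ComplexShape.embeddingUpNat]; omega
  have hac : ∀ (p : ℤ) (i : ℕ), 0 < i → IsZero ((Coh.Rpush f i).obj (C.X p)) := fun p i hi => by
    rcases lt_or_ge p 0 with hp | hp
    · exact (Coh.Rpush f i).map_isZero (K.isZero_extend_X e p fun k => by simp [e, ComplexShape.embeddingUpNat]; omega)
    · obtain ⟨n, rfl⟩ := Int.eq_ofNat_of_zero_le hp
      exact (isZero_rpush_cechSh 𝒰 F f hF n (hj n) (hjf n) i hi).of_iso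
        ((Coh.Rpush f i).mapIso (K.extendXIso e (by simp [e])))
  haveI := AffineUnit.hasInjectiveResolutions_rpush f C 0 hac
  let qX := HomotopyCategory.quotient X.Modules (ComplexShape.up ℤ)
  haveI := quasiIso_augCx 𝒰 F h𝒰
  let φ : (CochainComplex.singleFunctor X.Modules 0).obj F ⟶ C :=
    (HomologicalComplex.extendSingleIso e F 0 0 (by simp [e])).inv ≫
      HomologicalComplex.extendMap (augCx 𝒰 F) e
  haveI : QuasiIso φ := by
    haveI : QuasiIso (HomologicalComplex.extendMap (augCx 𝒰 F) e) :=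
      (HomologicalComplex.quasiIso_extendMap_iff _ e).2 inferInstance
    infer_instance
  haveI : IsIso (DerivedCategory.Q.map φ) := inferInstance
  exact ⟨DerivedCategory.Q.mapIso (H15Site.DescTop.mapExtendIso e (Scheme.Modules.pushforward f) K).symm ≪≫
    ((DerivedCategory.quotientCompQhIso S.Modules).app _).symm ≪≫
    asIso ((rpushUnit f).app (qX.obj C)) ≪≫
    (DCoh.Rpush f).mapIso ((DerivedCategory.quotientCompQhIso X.Modules).app C ≪≫
      (asIso (DerivedCategory.Q.map φ)).symm ≪≫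
      ((DerivedCategory.singleFunctorIsoCompQ X.Modules 0).app F).symm)⟩

/-- The terms of the relative Čech complex are quasi-coherent. -/
theorem isQCoh_relCech_X (hF : Coh.IsQCoh F) (n : ℕ)
    (hjf : ∀ a : Fin (n + 1) → ι, IsAffineHom ((∏ᶜ (𝒰 ∘ a) : X.Opens).ι ≫ f)) :
    Coh.IsQCoh (((CechOX.relCech 𝒰 f).obj F).X n) :=
  prop_cechSh_X 𝒰 F n (fun M => Coh.IsQCoh ((Scheme.Modules.pushforward f).obj M))
    (fun e h => @H10Coh.isQuasicoherent_of_iso _ _ _ ((Scheme.Modules.pushforward f).mapIso e) h)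
    (fun G hG => by
      haveI := Functor.preservesFiniteBiproductsOfAdditive (Scheme.Modules.pushforward f)
      exact @H10Coh.isQuasicoherent_of_iso _ _ _ ((Scheme.Modules.pushforward f).mapBiproduct G).symm
        (@H10Coh.isQuasicoherent_biproduct _ _ _ _ hG)) fun a => by
      haveI := hjf a
      haveI : F.IsQuasicoherent := hF
      exact @H10Coh.isQuasicoherent_of_iso _ _ _
        ((Scheme.Modules.pushforwardComp (∏ᶜ (𝒰 ∘ a) : X.Opens).ι f).app _).symm
        (@H10Coh.isQuasicoherent_pushforward_of_isAffineHom _ _ ((∏ᶜ (𝒰 ∘ a) : X.Opens).ι ≫ f) _ _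
          (Scheme.Modules.isQuasicoherent_restrictFunctor _ F))

end Groth.Agent.H17.CechShRes
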