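import Groth.Agent.H17.CechShRes.BaseChangeIso
import Groth.Agent.H17.CechShRes.Compare
import Groth.Agent.H17.CechShRes.Derived

/-!
# Base change of the relative Čech complex
-/

set_option autoImplicit false
set_option linter.style.haveILetI false

universe u

open CategoryTheory CategoryTheory.Limits AlgebraicGeometry TopologicalSpace Opposite

noncomputable section

namespace Groth.Agent.H17.CechShRes

open Groth.Agent.H15Site.CechTop

variable {X X' S S' : Scheme.{u}} {f : X ⟶ S} {g : S' ⟶ S} {g' : X' ⟶ X} {f' : X' ⟶ S'}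
  (h : IsPullback g' f' f g) {ι : Type u} (𝒰 : ι → X.Opens)

theorem prod_preimage {n : ℕ} (a : Fin (n + 1) → ι) :
    (∏ᶜ ((fun i => g' ⁻¹ᵁ 𝒰 i) ∘ a) : X'.Opens) = g' ⁻¹ᵁ (∏ᶜ (𝒰 ∘ a) : X.Opens) := by
  rw [prod_eq, prod_eq]
  ext x
  simp [cap, Opens.coe_iInf]

variable [Finite ι] [(Scheme.Modules.pullback g).Additive] (F : X.Modules) (hF : Coh.IsQCoh F)
  (hjf : ∀ (n : ℕ) (a : Fin (n + 1) → ι), IsAffineHom ((∏ᶜ (𝒰 ∘ a) : X.Opens).ι ≫ f))

/-- The comparison of values. -/
def valueIso (n : ℕ) (a : Fin (n + 1) → ι) :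
    (Scheme.Modules.pushforward f ⋙ Scheme.Modules.pullback g).obj
        ((CechOX.pushRestrFam.flip.obj F).obj (op (∏ᶜ (𝒰 ∘ a)))) ≅
      (CechOX.pushRestrFam.flip.obj ((Scheme.Modules.pullback g').obj F) ⋙ Scheme.Modules.pushforward f').obj
        (op (∏ᶜ ((fun i => g' ⁻¹ᵁ 𝒰 i) ∘ a))) :=
  haveI := hjf n a
  @asIso _ _ _ _ (theta g' (prod_preimage (g' := g') 𝒰 a).le F h) (isIso_theta h (prod_preimage 𝒰 a) F hF)

/-- `g^* Č(𝒰, f, F) ≅ Č(g'⁻¹𝒰, f', g'^* F)`. -/
def baseChangeIso :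
    ((Scheme.Modules.pullback g).mapHomologicalComplex (ComplexShape.up ℕ)).obj ((CechOX.relCech 𝒰 f).obj F) ≅
      (CechOX.relCech (fun i => g' ⁻¹ᵁ 𝒰 i) f').obj ((Scheme.Modules.pullback g').obj F) :=
  haveI : ∀ n : ℕ, PreservesLimitsOfShape (Discrete (Fin (n + 1) → ι))
      (Scheme.Modules.pushforward f ⋙ Scheme.Modules.pullback g) := fun n => by
    haveI := Functor.preservesFiniteProductsOfAdditive (Scheme.Modules.pullback g)
    haveI := (Scheme.Modules.pullbackPushforwardAdjunction f).rightAdjoint_preservesLimits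
    infer_instance
  haveI : ∀ J : Type u, PreservesLimitsOfShape (Discrete J) (Scheme.Modules.pushforward f') := fun J => by
    haveI := (Scheme.Modules.pullbackPushforwardAdjunction f').rightAdjoint_preservesLimits
    infer_instance
  HomologicalComplex.Hom.isoOfComponents (fun _ => Iso.refl _) (fun i j _ => by simp) ≪≫
    compareIso 𝒰 (fun i => g' ⁻¹ᵁ 𝒰 i) (Scheme.Modules.pushforward f ⋙ Scheme.Modules.pullback g)
      (CechOX.pushRestrFam.flip.obj F)
      (CechOX.pushRestrFam.flip.obj ((Scheme.Modules.pullback g').obj F) ⋙ Scheme.Modules.pushforward f')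
      (valueIso h 𝒰 F hF hjf)
      (fun _ _ a b i i' => theta_natural g' (prod_preimage 𝒰 b).le F (prod_preimage 𝒰 a).le i.le i'.le h) ≪≫
    (cechMapIso (fun i => g' ⁻¹ᵁ 𝒰 i) (Scheme.Modules.pushforward f')
      (CechOX.pushRestrFam.flip.obj ((Scheme.Modules.pullback g').obj F))).symm

end Groth.Agent.H17.CechShRes
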