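import Groth.Agent.H17.CechShRes.BaseChangeMap
import Groth.Agent.H10Coh.QCohOps

/-!
# The base change map of `f_* (j_W)_* (F|_W)` is invertible
-/

set_option autoImplicit false
set_option linter.style.haveILetI false

universe u

open CategoryTheory CategoryTheory.Limits AlgebraicGeometry TopologicalSpace Opposite TensorProduct
open Groth.Agent.H10Coh Groth.Agent.H10Coh.FBC

noncomputable section

namespace Groth.Agent.H17.CechShRes

section algebra

variable {R R' A B : Type u} [CommRing R] [CommRing R'] [CommRing A] [CommRing B] [Algebra R R'] [Algebra R A]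
  [Algebra A B] [Algebra R' B] [Algebra R B] [IsScalarTower R A B] [IsScalarTower R R' B]
  [Algebra.IsPushout R R' A B]
  {M N M₀ N₀ : Type u} [AddCommGroup M] [AddCommGroup N] [AddCommGroup M₀] [AddCommGroup N₀]
  [Module A M] [Module A N] [Module B N] [IsScalarTower A B N]
  [Module R M₀] [Module R N₀] [Module R' N₀] [IsScalarTower R R' N₀]

theorem bijective_liftBaseChange_of_isBaseChange (φ : M →ₗ[A] N) (hφ : IsBaseChange B φ)
    (e₁ : M ≃+ M₀) (e₂ : N ≃+ N₀) (h₁ : ∀ (r : R) (m : M), e₁ (algebraMap R A r • m) = r • e₁ m)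
    (h₂ : ∀ (r : R') (n : N), e₂ (algebraMap R' B r • n) = r • e₂ n)
    (ψ : M₀ →ₗ[R] N₀) (hψ : ∀ m, ψ (e₁ m) = e₂ (φ m)) :
    Function.Bijective (LinearMap.liftBaseChange R' ψ) := by
  letI := Module.compHom M (algebraMap R A)
  haveI : IsScalarTower R A M := .of_algebraMap_smul fun _ _ => rfl
  let T : R' ⊗[R] M ≃ₗ[R] R' ⊗[R] M₀ := LinearEquiv.lTensor R' { e₁ with map_smul' := h₁ }
  let c := Algebra.IsPushout.cancelBaseChange R R' A B M
  have h : ∀ z, LinearMap.liftBaseChange R' ψ (T z) = e₂ (hφ.equiv (c.symm z)) := fun z => by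
    induction z using TensorProduct.induction_on with
    | zero => simp only [map_zero]
    | add x y hx hy => simp only [map_add, hx, hy]
    | tmul r m =>
      rw [Algebra.IsPushout.cancelBaseChange_symm_tmul, IsBaseChange.equiv_tmul, h₂, ← hψ]
      exact LinearMap.liftBaseChange_tmul R' ψ r (e₁ m)
  have hb : Function.Bijective fun z => LinearMap.liftBaseChange R' ψ (T z) := by
    rw [funext h]
    exact e₂.bijective.comp (hφ.equiv.bijective.comp c.symm.bijective)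
  exact (Function.Bijective.of_comp_iff _ T.bijective).1 hb

end algebra

variable {X X' S S' : Scheme.{u}} {f : X ⟶ S} {g : S' ⟶ S} {g' : X' ⟶ X} {f' : X' ⟶ S'}
  (h : IsPullback g' f' f g)

theorem preimage_inter {W : X.Opens} {W'' : X'.Opens} (hW : W'' = g' ⁻¹ᵁ W) {V : S.Opens} {V' : S'.Opens}
    (hle : f' ⁻¹ᵁ V' ≤ g' ⁻¹ᵁ (f ⁻¹ᵁ V)) :
    W''.ι ''ᵁ (W''.ι ⁻¹ᵁ (f' ⁻¹ᵁ V')) = g' ⁻¹ᵁ (W.ι ''ᵁ (W.ι ⁻¹ᵁ (f ⁻¹ᵁ V))) ⊓ f' ⁻¹ᵁ V' := by
  subst hW
  rw [image_preimage_eq, image_preimage_eq]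
  ext x
  exact ⟨fun hx => ⟨⟨hx.1, hle hx.2⟩, hx.2⟩, fun hx => ⟨hx.1.1, hx.2⟩⟩

include h in
/-- The preimage of an open affine over the base is affine over the base. -/
theorem isAffineHom_preimage {W : X.Opens} {W'' : X'.Opens} (hW : W'' = g' ⁻¹ᵁ W) [IsAffineHom (W.ι ≫ f)] :
    IsAffineHom (W''.ι ≫ f') := by
  subst hW
  exact MorphismProperty.of_isPullback ((isPullback_morphismRestrict g' W).flip.paste_horiz h.flip).flip
    (inferInstance : IsAffineHom (W.ι ≫ f))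

/-- The base change map is an isomorphism. -/
theorem isIso_theta {W : X.Opens} {W'' : X'.Opens} (hW : W'' = g' ⁻¹ᵁ W) [IsAffineHom (W.ι ≫ f)]
    (F : X.Modules) (hF : Coh.IsQCoh F) : IsIso (theta g' hW.le F h) := by
  haveI : F.IsQuasicoherent := hF
  have hN : Coh.IsQCoh ((Scheme.Modules.pushforward f).obj ((CechOX.pushRestr W).obj F)) :=
    @isQuasicoherent_of_iso _ _ _ ((Scheme.Modules.pushforwardComp W.ι f).app _).symm
      (@isQuasicoherent_pushforward_of_isAffineHom _ _ (W.ι ≫ f) _ _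
        (Scheme.Modules.isQuasicoherent_restrictFunctor _ F))
  refine isIso_transpose g hN _ fun V V' hV hV' hle => ?_
  have hle' : f' ⁻¹ᵁ V' ≤ g' ⁻¹ᵁ (f ⁻¹ᵁ V) := preimage_le_preimage h hle
  let U : X.Opens := W.ι ''ᵁ (W.ι ⁻¹ᵁ (f ⁻¹ᵁ V))
  let U'' : X'.Opens := W''.ι ''ᵁ (W''.ι ⁻¹ᵁ (f' ⁻¹ᵁ V'))
  have hU : IsAffineOpen U := (hV.preimage (W.ι ≫ f)).image_of_isOpenImmersion W.ι
  haveI := isAffineHom_preimage h hW
  have hU'' : IsAffineOpen U'' := (hV'.preimage (W''.ι ≫ f')).image_of_isOpenImmersion W''.ι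
  have e : U'' = g' ⁻¹ᵁ U ⊓ f' ⁻¹ᵁ V' := preimage_inter hW hle'
  have h₁ : U ≤ f ⁻¹ᵁ V := W.ι.image_preimage_le _
  have h₂ : U'' ≤ g' ⁻¹ᵁ U := e.trans_le inf_le_left
  have h₃ : U'' ≤ f' ⁻¹ᵁ V' := e.trans_le inf_le_right
  letI := (g.appLE V V' hle).hom.toAlgebra
  letI := (f.appLE V U h₁).hom.toAlgebra
  letI := (g'.appLE U U'' h₂).hom.toAlgebra
  letI := (f'.appLE V' U'' h₃).hom.toAlgebra
  letI : Algebra Γ(S, V) Γ(X', U'') := ((g'.appLE U U'' h₂).hom.comp (f.appLE V U h₁).hom).toAlgebra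
  haveI : IsScalarTower Γ(S, V) Γ(X, U) Γ(X', U'') := .of_algebraMap_eq' rfl
  haveI : IsScalarTower Γ(S, V) Γ(S', V') Γ(X', U'') := .of_algebraMap_eq' (by
    show (f.appLE V U h₁ ≫ g'.appLE U U'' h₂).hom = (g.appLE V V' hle ≫ f'.appLE V' U'' h₃).hom
    rw [Scheme.Hom.appLE_comp_appLE, Scheme.Hom.appLE_comp_appLE]
    simp only [h.w])
  haveI : Algebra.IsPushout Γ(S, V) Γ(S', V') Γ(X, U) Γ(X', U'') :=
    CommRingCat.isPushout_iff_isPushout.1
      ((isIso_pushoutSection_iff h hle h₁ e).mp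
        (isIso_pushoutSection_of_isAffineOpen h hle h₁ e hV hV' hU)).flip
  letI := Module.compHom Γ((Scheme.Modules.pullback g').obj F, U'') (g'.appLE U U'' h₂).hom
  haveI : IsScalarTower Γ(X, U) Γ(X', U'') Γ((Scheme.Modules.pullback g').obj F, U'') :=
    .of_algebraMap_smul fun _ _ => rfl
  letI := Module.compHom Γ((Scheme.Modules.pushforward f').obj
      ((CechOX.pushRestr W'').obj ((Scheme.Modules.pullback g').obj F)), V') (g.appLE V V' hle).hom
  haveI : IsScalarTower Γ(S, V) Γ(S', V') Γ((Scheme.Modules.pushforward f').obj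
      ((CechOX.pushRestr W'').obj ((Scheme.Modules.pullback g').obj F)), V') :=
    .of_algebraMap_smul fun _ _ => rfl
  refine bijective_liftBaseChange_of_isBaseChange (H8Props.PullSections.pullLin g' F h₂)
    (H8Props.PullSections.isBaseChange_pullLin g' F h₂ hF hU hU'')
    (M₀ := Γ((Scheme.Modules.pushforward f).obj ((CechOX.pushRestr W).obj F), V))
    (N₀ := Γ((Scheme.Modules.pushforward f').obj
      ((CechOX.pushRestr W'').obj ((Scheme.Modules.pullback g').obj F)), V'))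
    (AddEquiv.refl Γ(F, U)) (AddEquiv.refl Γ((Scheme.Modules.pullback g').obj F, U''))
    (fun r m => ?_) (fun r n => ?_) _ fun m => ?_
  · refine congrArg (fun a : Γ(X, U) => a • m) ?_
    show f.appLE V U h₁ r = (W.ι.appIso (W.ι ⁻¹ᵁ (f ⁻¹ᵁ V))).inv (W.ι.app (f ⁻¹ᵁ V) (f.app V r))
    exact (ConcreteCategory.congr_hom (W.ι.app_appIso_inv (f ⁻¹ᵁ V)) (f.app V r)).symm
  · refine congrArg (fun a : Γ(X', U'') => a • n) ?_
    show f'.appLE V' U'' h₃ r = (W''.ι.appIso (W''.ι ⁻¹ᵁ (f' ⁻¹ᵁ V'))).inv (W''.ι.app (f' ⁻¹ᵁ V') (f'.app V' r))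
    exact (ConcreteCategory.congr_hom (W''.ι.app_appIso_inv (f' ⁻¹ᵁ V')) (f'.app V' r)).symm
  · show rs ((Scheme.Modules.pushforward f').obj ((CechOX.pushRestr W'').obj ((Scheme.Modules.pullback g').obj F)))
        hle ((τPush h (phi g' hW.le F)).app V m) =
      rs ((Scheme.Modules.pullback g').obj F) h₂ (OmegaSh.pullSect g' F U m)
    rw [τPush_app, phi_app]
    exact ((congrArg (rs ((Scheme.Modules.pullback g').obj F)
      (CechOX.image_preimage_mono (le_refl W'') (f' ⁻¹ᵁ V') |>.trans (W''.ι.image_mono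
        (W''.ι.preimage_mono (f'.preimage_mono hle)))))
      (rs_rs ((Scheme.Modules.pullback g').obj F) _
        (W''.ι.image_mono (W''.ι.preimage_mono (preimage_swap h V).le)) _)).trans (rs_rs _ _ _ _))

end Groth.Agent.H17.CechShRes
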