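import Groth.Agent.H17.CechShRes.Eval
import Groth.Agent.H10Coh.FlatBC.Sheaf

/-!
# The base change map of `f_* (j_W)_* (F|_W)`
-/

set_option autoImplicit false
set_option linter.style.haveILetI false

universe u

open CategoryTheory CategoryTheory.Limits AlgebraicGeometry TopologicalSpace Opposite
open Groth.Agent.H10Coh Groth.Agent.H10Coh.FBC

noncomputable section

namespace Groth.Agent.H17.CechShRes

variable {X X' : Scheme.{u}} (g' : X' ⟶ X) {W : X.Opens} {W'' : X'.Opens} (hW : W'' ≤ g' ⁻¹ᵁ W)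

include hW in
theorem inter_le_preimage (V : X.Opens) :
    W''.ι ''ᵁ (W''.ι ⁻¹ᵁ (g' ⁻¹ᵁ V)) ≤ g' ⁻¹ᵁ (W.ι ''ᵁ (W.ι ⁻¹ᵁ V)) := by
  rw [image_preimage_eq, image_preimage_eq]
  exact fun x hx => ⟨hW hx.1, hx.2⟩

/-- Restriction of sections `(j_W)_*((g'_*F')|_W) ⟶ g'_* (j_W'')_*(F'|_W'')`. -/
def psi (F' : X'.Modules) :
    (CechOX.pushRestr W).obj ((Scheme.Modules.pushforward g').obj F') ⟶
      (Scheme.Modules.pushforward g').obj ((CechOX.pushRestr W'').obj F') :=
  (Scheme.Modules.pushforward W.ι).map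
      (restrCmp (g := W.ι) (g' := W''.ι) (f' := g'.resLE W W'' hW) (g'.resLE_comp_ι hW) F') ≫
    (Scheme.Modules.pushforwardComp (g'.resLE W W'' hW) W.ι ≪≫
      Scheme.Modules.pushforwardCongr (g'.resLE_comp_ι hW) ≪≫
      (Scheme.Modules.pushforwardComp W''.ι g').symm).hom.app _

theorem psi_app (F' : X'.Modules) (V : X.Opens)
    (m : Γ((CechOX.pushRestr W).obj ((Scheme.Modules.pushforward g').obj F'), V)) :
    (psi g' hW F').app V m = rs F' (inter_le_preimage g' hW V)
      (show Γ(F', g' ⁻¹ᵁ (W.ι ''ᵁ (W.ι ⁻¹ᵁ V))) from m) := by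
  dsimp only [psi]
  simp only [Scheme.Modules.Hom.comp_app, Scheme.Modules.pushforward_map_app, Iso.trans_hom, NatTrans.comp_app,
    Iso.symm_hom, Scheme.Modules.pushforwardComp_hom_app_app, Scheme.Modules.pushforwardComp_inv_app_app,
    pushforwardCongr_hom_app_app, restrCmp_app]
  simp only [ConcreteCategory.comp_apply]
  have hA := image_preimage_le (g'.resLE_comp_ι hW) (W.ι ⁻¹ᵁ V)
  have hB : W''.ι ''ᵁ (W''.ι ⁻¹ᵁ (g' ⁻¹ᵁ V)) ≤ W''.ι ''ᵁ ((g'.resLE W W'' hW) ⁻¹ᵁ (W.ι ⁻¹ᵁ V)) :=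
    W''.ι.image_mono (le_of_eq (show (W''.ι ≫ g') ⁻¹ᵁ V = (g'.resLE W W'' hW ≫ W.ι) ⁻¹ᵁ V by
      rw [g'.resLE_comp_ι hW]))
  exact rs_rs F' hA hB m

variable (F : X.Modules)

/-- Pull a section back and restrict it. -/
def phi : (CechOX.pushRestr W).obj F ⟶
    (Scheme.Modules.pushforward g').obj ((CechOX.pushRestr W'').obj ((Scheme.Modules.pullback g').obj F)) :=
  (CechOX.pushRestr W).map ((Scheme.Modules.pullbackPushforwardAdjunction g').unit.app F) ≫ psi g' hW _

theorem phi_app (V : X.Opens) (m : Γ((CechOX.pushRestr W).obj F, V)) :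
    (phi g' hW F).app V m = rs ((Scheme.Modules.pullback g').obj F) (inter_le_preimage g' hW V)
      (OmegaSh.pullSect g' F (W.ι ''ᵁ (W.ι ⁻¹ᵁ V)) (show Γ(F, W.ι ''ᵁ (W.ι ⁻¹ᵁ V)) from m)) := by
  dsimp only [phi]
  rw [Scheme.Modules.Hom.comp_app, ConcreteCategory.comp_apply, psi_app]
  rfl

variable {W₂ : X.Opens} {W₂'' : X'.Opens} (hW₂ : W₂'' ≤ g' ⁻¹ᵁ W₂) (l : W₂ ≤ W) (l'' : W₂'' ≤ W'')

theorem phi_natural :
    (CechOX.pushRestrMap l).app F ≫ phi g' hW₂ F =
      phi g' hW F ≫ (Scheme.Modules.pushforward g').map ((CechOX.pushRestrMap l'').app _) := by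
  refine Scheme.Modules.hom_ext _ _ fun V => AddCommGrpCat.hom_ext (AddMonoidHom.ext fun m => ?_)
  show (phi g' hW₂ F).app V (((CechOX.pushRestrMap l).app F).app V m) =
    ((CechOX.pushRestrMap l'').app _).app (g' ⁻¹ᵁ V) ((phi g' hW F).app V m)
  rw [phi_app, phi_app]
  show rs ((Scheme.Modules.pullback g').obj F) (inter_le_preimage g' hW₂ V)
      (((Scheme.Modules.pullbackPushforwardAdjunction g').unit.app F).app (W₂.ι ''ᵁ (W₂.ι ⁻¹ᵁ V))
        (rs F (CechOX.image_preimage_mono l V) m)) =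
    rs ((Scheme.Modules.pullback g').obj F) (CechOX.image_preimage_mono l'' (g' ⁻¹ᵁ V))
      (rs ((Scheme.Modules.pullback g').obj F) (inter_le_preimage g' hW V)
        (((Scheme.Modules.pullbackPushforwardAdjunction g').unit.app F).app (W.ι ''ᵁ (W.ι ⁻¹ᵁ V)) m))
  refine (congrArg (rs ((Scheme.Modules.pullback g').obj F) (inter_le_preimage g' hW₂ V))
    (app_rs ((Scheme.Modules.pullbackPushforwardAdjunction g').unit.app F) (CechOX.image_preimage_mono l V) m)).trans ?_
  exact (rs_rs ((Scheme.Modules.pullback g').obj F) (g'.preimage_mono (CechOX.image_preimage_mono l V))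
    (inter_le_preimage g' hW₂ V) _).trans (rs_rs _ _ _ _).symm

variable {S S' : Scheme.{u}} {f : X ⟶ S} {g : S' ⟶ S} {f' : X' ⟶ S'} (h : IsPullback g' f' f g)

/-- The transpose of the base change map. -/
def tau : (Scheme.Modules.pushforward f).obj ((CechOX.pushRestr W).obj F) ⟶
    (Scheme.Modules.pushforward g).obj ((Scheme.Modules.pushforward f').obj
      ((CechOX.pushRestr W'').obj ((Scheme.Modules.pullback g').obj F))) :=
  τPush h (phi g' hW F)

theorem tau_natural :
    (Scheme.Modules.pushforward f).map ((CechOX.pushRestrMap l).app F) ≫ tau g' hW₂ F h =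
      tau g' hW F h ≫ (Scheme.Modules.pushforward g).map ((Scheme.Modules.pushforward f').map
        ((CechOX.pushRestrMap l'').app _)) := by
  dsimp only [tau, τPush]
  rw [← Category.assoc, ← Functor.map_comp, phi_natural g' hW F hW₂ l l'', Functor.map_comp,
    Category.assoc, Category.assoc]
  exact congrArg (_ ≫ ·) ((Scheme.Modules.pushforwardComp g' f ≪≫
    Scheme.Modules.pushforwardCongr h.w ≪≫ (Scheme.Modules.pushforwardComp f' g).symm).hom.naturality _)

/-- The base change map. -/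
def theta : (Scheme.Modules.pullback g).obj ((Scheme.Modules.pushforward f).obj ((CechOX.pushRestr W).obj F)) ⟶
    (Scheme.Modules.pushforward f').obj ((CechOX.pushRestr W'').obj ((Scheme.Modules.pullback g').obj F)) :=
  ((Scheme.Modules.pullbackPushforwardAdjunction g).homEquiv _ _).symm (tau g' hW F h)

theorem theta_natural :
    (Scheme.Modules.pullback g).map ((Scheme.Modules.pushforward f).map ((CechOX.pushRestrMap l).app F)) ≫
        theta g' hW₂ F h =
      theta g' hW F h ≫ (Scheme.Modules.pushforward f').map ((CechOX.pushRestrMap l'').app _) := by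
  dsimp only [theta]
  rw [← Adjunction.homEquiv_naturality_left_symm, ← Adjunction.homEquiv_naturality_right_symm,
    tau_natural g' hW F hW₂ l l'' h]

end Groth.Agent.H17.CechShRes
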