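import Groth.Prelude.Def_CechOX
import Groth.Agent.H15Site.CechTop
import Mathlib

/-!
# An additive product-preserving functor commutes with Čech complexes; sections of the Čech complex of sheaves
-/

set_option autoImplicit false
set_option linter.style.haveILetI false

universe u

open CategoryTheory CategoryTheory.Limits AlgebraicGeometry TopologicalSpace Opposite

noncomputable section

namespace Groth.Agent.H17.CechShRes

section General

variable {C : Type u} [Category.{u} C] [HasFiniteProducts C]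
  {A : Type (u + 1)} [Category.{u} A] [Preadditive A] [HasProducts.{u} A]
  {B : Type (u + 1)} [Category.{u} B] [Preadditive B] [HasProducts.{u} B]
  {ι : Type u} (U : ι → C) (G : A ⥤ B) [G.Additive]
  [∀ J : Type u, PreservesLimitsOfShape (Discrete J) G]

/-- Comparison in one degree. -/
def cechCompIso (P : Cᵒᵖ ⥤ A) (n : ℕ) :
    G.obj (((cechComplexFunctor U).obj P).X n) ≅ ((cechComplexFunctor U).obj (P ⋙ G)).X n :=
  PreservesProduct.iso G fun a : Fin (n + 1) → ι => P.obj (op (∏ᶜ (U ∘ a)))

theorem cechCompIso_hom_π (P : Cᵒᵖ ⥤ A) (n : ℕ) (a : Fin (n + 1) → ι) :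
    (cechCompIso U G P n).hom ≫ Pi.π (fun a : Fin (n + 1) → ι => G.obj (P.obj (op (∏ᶜ (U ∘ a))))) a =
      G.map (Pi.π (fun a : Fin (n + 1) → ι => P.obj (op (∏ᶜ (U ∘ a)))) a) := by
  rw [cechCompIso, PreservesProduct.iso_hom]
  exact piComparison_comp_π G _ a

theorem d_eq_sum {A' : Type (u + 1)} [Category.{u} A'] [Preadditive A'] [HasProducts.{u} A'] (P : Cᵒᵖ ⥤ A') (n : ℕ) :
    ((cechComplexFunctor U).obj P).d n (n + 1) = ∑ j : Fin (n + 2), ((-1 : ℤ) ^ (j : ℕ)) •
      ((FormalCoproduct.cosimplicialObjectFunctor (A := A') (FormalCoproduct.mk _ U).cech).obj P).δ j := by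
  let E := (FormalCoproduct.cosimplicialObjectFunctor (A := A') (FormalCoproduct.mk _ U).cech).obj P
  exact CochainComplex.of_d (fun n => E.obj (SimplexCategory.mk n))
    (AlgebraicTopology.AlternatingCofaceMapComplex.objD E) n

theorem cechCompIso_comm (P : Cᵒᵖ ⥤ A) (n : ℕ) :
    (cechCompIso U G P n).hom ≫ ((cechComplexFunctor U).obj (P ⋙ G)).d n (n + 1) =
      G.map (((cechComplexFunctor U).obj P).d n (n + 1)) ≫ (cechCompIso U G P (n + 1)).hom := by
  rw [d_eq_sum, d_eq_sum]
  erw [G.map_sum]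
  erw [Preadditive.comp_sum, Preadditive.sum_comp]
  refine Finset.sum_congr rfl fun j _ => ?_
  erw [Functor.map_zsmul, Preadditive.comp_zsmul, Preadditive.zsmul_comp]
  congr 1
  refine Pi.hom_ext _ _ fun a => ?_
  erw [Category.assoc, Category.assoc]
  erw [cechCompIso_hom_π U G P (n + 1) a]
  erw [← G.map_comp]
  erw [Pi.lift_π, Pi.lift_π]
  erw [G.map_comp, ← cechCompIso_hom_π U G P n, Category.assoc]
  rfl

/-- An additive functor preserving products commutes with the Čech complex. -/
def cechMapIso (P : Cᵒᵖ ⥤ A) :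
    (G.mapHomologicalComplex (ComplexShape.up ℕ)).obj ((cechComplexFunctor U).obj P) ≅
      (cechComplexFunctor U).obj (P ⋙ G) :=
  HomologicalComplex.Hom.isoOfComponents (fun n => cechCompIso U G P n) fun i j h => by
    obtain rfl : i + 1 = j := h
    exact cechCompIso_comm U G P i

end General

variable {X : Scheme.{u}}

/-- Sections over `V`. -/
def secFun (V : X.Opens) : X.Modules ⥤ AddCommGrpCat.{u} :=
  Scheme.Modules.toPresheaf X ⋙ (evaluation _ _).obj (op V)

instance (V : X.Opens) : (secFun V).Additive where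
  map_add := rfl

instance (V : X.Opens) (J : Type u) : PreservesLimitsOfShape (Discrete J) (secFun V) := by
  haveI h1 : PreservesLimitsOfShape (Discrete J) (Scheme.Modules.toPresheaf X) := inferInstance
  haveI h2 : PreservesLimitsOfShape (Discrete J) ((evaluation (X.Opens)ᵒᵖ AddCommGrpCat.{u}).obj (op V)) := inferInstance
  exact @comp_preservesLimitsOfShape _ _ _ _ _ _ _ _ (Scheme.Modules.toPresheaf X) _ h1 h2

/-- The presheaf `W ↦ F(W ∩ V)`. -/
def interPre (F : X.Modules) (V : X.Opens) : (X.Opens)ᵒᵖ ⥤ AddCommGrpCat.{u} :=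
  CechOX.pushRestrFam.flip.obj F ⋙ secFun V

/-- The sections of the Čech complex of sheaves over `V`. -/
def secIso {ι : Type u} (𝒰 : ι → X.Opens) (F : X.Modules) (V : X.Opens) :
    ((secFun V).mapHomologicalComplex (ComplexShape.up ℕ)).obj ((CechOX.cechSh 𝒰).obj F) ≅
      (cechComplexFunctor 𝒰).obj (interPre F V) :=
  cechMapIso 𝒰 (secFun V) (CechOX.pushRestrFam.flip.obj F)

theorem image_preimage_eq (W V : X.Opens) : W.ι ''ᵁ (W.ι ⁻¹ᵁ V) = W ⊓ V := by
  rw [Scheme.Hom.image_preimage_eq_opensRange_inf, Scheme.Opens.opensRange_ι]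

theorem res_bijective (F : X.Modules) {A B : X.Opens} (h : B ≤ A) (e : A = B) :
    Function.Bijective (F.presheaf.map (homOfLE h).op) := by
  subst e
  rw [show (homOfLE h).op = 𝟙 _ from rfl, CategoryTheory.Functor.map_id]
  exact Function.bijective_id

/-- Over `V ≤ U_k` the presheaf does not see `U_k`. -/
theorem isConeAt_interPre {ι : Type u} (𝒰 : ι → X.Opens) (F : X.Modules) {V : X.Opens} {k : ι} (hV : V ≤ 𝒰 k) :
    H15Site.CechTop.IsConeAt 𝒰 (interPre F V) k := by
  intro n a
  refine res_bijective F (CechOX.image_preimage_mono (H15Site.CechTop.cap_cons_le 𝒰 k a) V) ?_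
  rw [image_preimage_eq, image_preimage_eq]
  exact le_antisymm (le_inf (H15Site.CechTop.le_cap_cons 𝒰 k a inf_le_left (inf_le_right.trans hV)) inf_le_right)
    (inf_le_inf_right V (H15Site.CechTop.cap_cons_le 𝒰 k a))

end Groth.Agent.H17.CechShRes
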